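import Cfsg.Agent.Ree.Torus.Func.Sums
import Cfsg.Agent.Ree.Torus.Spec

/-!
The functions of the torus: the target.
-/

set_option autoImplicit false
set_option linter.style.haveILetI false
set_option linter.unusedSectionVars false

namespace Cfsg.Lib.Ree

open Cfsg Cfsg.Lib.Chars Subgroup
open scoped ComplexConjugate

universe u v

attribute [local instance] _root_.Classical.propDecidable

open scoped _root_.Classical in
/-- The sum of the linear characters at a point. -/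
theorem sum_dual_point {A : Type u} [CommGroup A] [Finite A] [Fintype (A →* ℂˣ)] (x : A) :
    ∑ μ : A →* ℂˣ, (μ x : ℂ) = if x = 1 then (Nat.card A : ℂ) else 0 := by
  split_ifs with hx
  · subst hx
    simp only [map_one, Units.val_one, Finset.sum_const, Finset.card_univ, nsmul_eq_mul, mul_one]
    rw [← CommGroup.card_monoidHom_of_hasEnoughRootsOfUnity A ℂ, Nat.card_eq_fintype_card]
  · obtain ⟨ν, hν⟩ := CommGroup.exists_apply_ne_one_of_hasEnoughRootsOfUnity A ℂ hx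
    have h : ∑ μ : A →* ℂˣ, (μ x : ℂ) = (ν x : ℂ) * ∑ μ : A →* ℂˣ, (μ x : ℂ) := by
      rw [Finset.mul_sum]
      exact (Fintype.sum_equiv (Equiv.mulLeft ν) _ _ fun μ => by simp).symm
    by_contra h0
    exact hν (Units.ext (mul_right_cancel₀ h0 (by rw [Units.val_one, one_mul]; exact h.symm)))

variable {G : Type u} [Group G] [Fintype G]

namespace Frame

variable {t : G} (Φ : Frame t)

theorem sgn_values : ∀ i : Fin 4, i ≠ 0 →
    (sgn i (-1, 1) = 1 ∧ sgn i (1, -1) = -1 ∧ sgn i (-1, -1) = -1) ∨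
      (sgn i (-1, 1) = -1 ∧ sgn i (1, -1) + sgn i (-1, -1) = 0) := by
  decide

/-- The congruence for a character constant on `t K`. -/
theorem mlt_congr (χ : IrrCharacter G) (u α : ℤ) (hu : ∀ y : Φ.K, y ≠ 1 → (χ : G → ℂ) (t * (y : G)) = u)
    (hα : ∀ θ, θ ≠ 1 → Φ.mlt 1 θ χ = α) :
    (Nat.card Φ.K : ℤ) ∣ (deg (χ : G → ℂ) : ℤ) + 4 * α - u := by
  classical
  haveI := Φ.cyclic_K
  letI : CommGroup Φ.K := IsCyclic.commGroup
  haveI : Finite (Φ.K →* ℂˣ) :=
    Finite.of_equiv Φ.K (CommGroup.monoidHom_mulEquiv_of_hasEnoughRootsOfUnity Φ.K ℂ).some.toEquiv.symm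
  letI : Fintype (Φ.K →* ℂˣ) := Fintype.ofFinite _
  obtain ⟨n, hn⟩ := IsCharacter.exists_mult (IsCharacter.restrict (isCharacter_of_irr χ.2) Φ.K)
    (isIrrCharacter_linear (1 : Φ.K →* ℂˣ))
  set k : ℂ := (Nat.card Φ.K : ℂ) with hk
  set S : ℂ := ∑ y : Φ.K, (χ : G → ℂ) (y : G)
  have hS : S = k * n := by
    rw [classInner_def] at hn
    simp only [MonoidHom.one_apply, Units.val_one, map_one, mul_one] at hn
    rw [← hn, mul_inv_cancel_left₀ Φ.card_K_ne]
  have hP : ∀ θ : Φ.K →* ℂˣ, θ ≠ 1 →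
      ∑ y : Φ.K, conj ((θ y : ℂ) - 1) * (χ : G → ℂ) (y : G) = 4 * k * (α : ℂ) - k * (u : ℂ) := fun θ hθ => by
    have h := Φ.mlt_const 1 hθ χ (u : ℂ) hu
    rw [hα θ hθ, if_neg (by decide)] at h
    linear_combination -h
  have hsum : ∑ θ : Φ.K →* ℂˣ, ∑ y : Φ.K, conj ((θ y : ℂ) - 1) * (χ : G → ℂ) (y : G) =
      k * (χ : G → ℂ) 1 - k * S := by
    rw [Finset.sum_comm, Finset.sum_congr rfl fun (y : Φ.K) _ => show _ =
      (if y = 1 then k * (χ : G → ℂ) 1 else 0) - k * (χ : G → ℂ) (y : G) by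
        rw [← Finset.sum_mul, ← map_sum, Finset.sum_sub_distrib, sum_dual_point, Finset.sum_const, Finset.card_univ,
          nsmul_eq_mul, mul_one, ← Nat.card_eq_fintype_card, CommGroup.card_monoidHom_of_hasEnoughRootsOfUnity]
        split_ifs with h
        · subst h; simp [hk]
        · simp [hk], Finset.sum_sub_distrib, Finset.sum_ite_eq', if_pos (Finset.mem_univ _), ← Finset.mul_sum]
  rw [← Finset.add_sum_erase _ _ (Finset.mem_univ (1 : Φ.K →* ℂˣ)),
    Finset.sum_eq_zero (s := Finset.univ) fun y _ => by simp, zero_add,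
    Finset.sum_congr rfl fun θ hθ => hP θ (Finset.ne_of_mem_erase hθ), Finset.sum_const,
    Finset.card_erase_of_mem (Finset.mem_univ _), Finset.card_univ, ← Nat.card_eq_fintype_card,
    CommGroup.card_monoidHom_of_hasEnoughRootsOfUnity, nsmul_eq_mul, Nat.cast_sub Nat.card_pos, Nat.cast_one,
    ← hk, hS] at hsum
  refine ⟨(4 * α - u + n : ℤ), Int.cast_injective (α := ℂ) (mul_left_cancel₀ Φ.card_K_ne ?_)⟩
  push_cast
  rw [← irr_apply_one_eq_deg, ← hk]
  linear_combination -hsum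

open scoped _root_.Classical in
theorem mlt_one (i : Fin 4) {θ : Φ.K →* ℂˣ} (hθ : θ ≠ 1) (χ : IrrCharacter G)
    (hχ : (χ : G → ℂ) = fun _ => 1) : Φ.mlt i θ χ = if i = 0 then -1 else 0 := by
  have h := Φ.mlt_const i hθ χ 1 (fun y _ => by rw [hχ])
  simp only [hχ, mul_one, sum_sub_one hθ] at h
  have hk := Φ.card_K_ne
  apply Int.cast_injective (α := ℂ)
  have h4 : (4 * (Nat.card Φ.K : ℂ)) ≠ 0 := mul_ne_zero (by norm_num) hk
  refine mul_left_cancel₀ h4 (h.trans ?_)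
  split_ifs <;> push_cast <;> ring

theorem mlt_rel (χ : IrrCharacter G) (u : ℤ) (hu : ∀ y : Φ.K, y ≠ 1 → (χ : G → ℂ) (t * (y : G)) = u)
    {θ : Φ.K →* ℂˣ} (hθ : θ ≠ 1) {i : Fin 4} (hi : i ≠ 0) :
    Φ.mlt i θ χ = Φ.mlt 1 θ χ ∧ Φ.mlt i θ χ = Φ.mlt 0 θ χ + u := by
  have h : ∀ j, _ := fun j => Φ.mlt_const j hθ χ (u : ℂ) hu
  have h4 : (4 * (Nat.card Φ.K : ℂ)) ≠ 0 := mul_ne_zero (by norm_num) Φ.card_K_ne
  have hi' := h i
  rw [if_neg hi] at hi'
  constructor <;> apply Int.cast_injective (α := ℂ) <;> refine mul_left_cancel₀ h4 ?_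
  · have h1 := h 1
    rw [if_neg (by decide)] at h1
    linear_combination hi' - h1
  · have h0 := h 0
    rw [if_pos rfl] at h0
    push_cast
    linear_combination hi' - h0

theorem act_zero_false (θ : Φ.K →* ℂˣ) : θ.comp (Φ.act (0, false)) = θ :=
  MonoidHom.ext fun y => by simp [act, cj_zero, ivh]

theorem act_zero_true (θ : Φ.K →* ℂˣ) : θ.comp (Φ.act (0, true)) = θ⁻¹ :=
  MonoidHom.ext fun y => by simp [act, cj_zero, ivh]

theorem inv_ne {θ : Φ.K →* ℂˣ} (hθ : θ ≠ 1) : θ⁻¹ ≠ θ := fun h =>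
  Φ.comp_cj_ne_inv hθ 0 (by rw [cj_zero, MonoidHom.comp_id, h])

/-- The norm of a function with a nontrivial character of `V`. -/
theorem sum_same (hmv : Φ.Moved) {i : Fin 4} (hi : i ≠ 0) {θ θ' : Φ.K →* ℂˣ} (hθ : θ ≠ 1) (hθ' : θ' ≠ 1) :
    ((∑ χ : IrrCharacter G, Φ.mlt i θ χ * Φ.mlt i θ' χ : ℤ) : ℂ) =
      ((if θ' = θ then 1 else 0) + 1) + ((if θ'⁻¹ = θ then 1 else 0) + 1) := by
  rw [Φ.sum_mlt_mlt hmv i i hθ hθ', Fintype.sum_prod_type, Fin.sum_univ_three]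
  simp only [Fintype.sum_bool, table_zero, table_self i 1 hi (by decide), table_self i 2 hi (by decide),
    act_zero_false, act_zero_true, if_pos]
  push_cast
  ring

/-- Products at a character that is moved. -/
theorem sum_moved (hmv : Φ.Moved) (i j : Fin 4) {θ : Φ.K →* ℂˣ} (hθ : θ ≠ 1)
    (hθ₀ : ∀ p, θ.comp (Φ.act p) = θ → p = (0, false)) :
    ((∑ χ : IrrCharacter G, Φ.mlt i θ χ * Φ.mlt j θ χ : ℤ) : ℂ) =
      4⁻¹ * ((table i j 0 : ℂ) + 2 * ∑ r : Fin 3, (table i j r : ℂ)) := by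
  rw [Φ.sum_mlt_mlt hmv i j hθ hθ, Finset.sum_congr rfl fun p _ => show _ =
    (if p = (0, false) then (table i j 0 : ℂ) else 0) + (table i j p.1 : ℂ) by
      by_cases hp : θ.comp (Φ.act p) = θ
      · obtain rfl := hθ₀ p hp
        rw [if_pos hp, if_pos rfl]; ring
      · rw [if_neg hp, if_neg fun e' => hp (by rw [e']; exact Φ.act_zero_false θ)]; ring,
    Finset.sum_add_distrib, Finset.sum_ite_eq', if_pos (Finset.mem_univ _), Fintype.sum_prod_type]
  simp only [Fintype.sum_bool, Finset.sum_add_distrib]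
  ring

end Frame

section Main

variable {t : G} {E : Subgroup G} [Fintype E] {F : Type v} [Field F] [Fintype F]

/-- The target, with the frame it is read off from. -/
theorem torusFun_frame (H : Setting t E F) (Tb : PSLTable E (signedCard F)) (SF : SectFacts t E F) :
    ∃ Φ : Frame t, Φ.v = (Tb.v : G) ∧ Φ.Moved ∧ ∃ e : Tb.K ≃* Φ.K,
      (∀ y : Φ.K, (((e.symm y : Tb.K) : E) : G) = y) ∧
      ∃ TF : TorusFun (t := t) Tb, TF.a = fun i θ χ => Φ.mlt i (θ.comp e.symm.toMonoidHom) χ := by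
  classical
  have hvo : orderOf (Tb.v : G) = 2 := by rw [Subgroup.orderOf_coe]; exact Tb.v_ord
  obtain ⟨Φ, hΦv⟩ := H.exists_frame Tb.v.2 hvo
  have hvE : Φ.v ∈ E := hΦv ▸ Tb.v.2
  have hin : ∀ y : Tb.K, ((y : E) : G) ∈ Φ.K := fun y => by
    obtain ⟨h1, h2⟩ := (Tb.comm y).1 y.2
    refine (Φ.mem_K _).2 ⟨by rwa [Subgroup.orderOf_coe], (H.hyp.comm _ (y : E).2).symm, ?_⟩
    rw [hΦv]
    exact h2.map E.subtype
  let e₀ : Tb.K →* Φ.K := (E.subtype.comp Tb.K.subtype).codRestrict Φ.K hin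
  have he₀ : Function.Bijective e₀ := by
    refine ⟨fun a b h => Subtype.ext (Subtype.ext (congrArg (fun z : Φ.K => (z : G)) h)), fun y => ?_⟩
    obtain ⟨h1, h2, h3⟩ := (Φ.mem_K _).1 y.2
    refine ⟨⟨⟨y, H.hyp.odd_mem_E h1 h2⟩, (Tb.comm _).2 ⟨by rwa [Subgroup.orderOf_mk], ?_⟩⟩, Subtype.ext rfl⟩
    exact Subtype.ext (by rw [hΦv] at h3; exact h3.eq)
  let e : Tb.K ≃* Φ.K := MulEquiv.ofBijective e₀ he₀
  have hec : ∀ y : Φ.K, (((e.symm y : Tb.K) : E) : G) = y := fun y =>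
    congrArg Subtype.val (e.apply_symm_apply y)
  have hcard : Nat.card Tb.K = Nat.card Φ.K := Nat.card_congr e.toEquiv
  have hk : Fintype.card F = 4 * Nat.card Φ.K + 1 ∨ Fintype.card F + 1 = 4 * Nat.card Φ.K := by
    have h := Tb.card_K
    rw [hcard] at h
    have hm := H.mod
    rcases hm with hm | hm
    · right
      rw [signedCard, if_neg (by omega)] at h
      omega
    · left
      rw [signedCard, if_pos hm] at h
      omega
  have hmv : Φ.Moved := Φ.not_central H hvE hk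
  obtain ⟨θ₀, hθ₀ne, hθ₀⟩ := Φ.exists_moved_char hmv
  let tr : (Tb.K →* ℂˣ) → (Φ.K →* ℂˣ) := fun θ => θ.comp e.symm.toMonoidHom
  have htr : ∀ θ θ', tr θ = tr θ' → θ = θ' := fun θ θ' h => MonoidHom.ext fun y => by
    simpa [tr] using DFunLike.congr_fun h (e y)
  have htr1 : ∀ θ, θ ≠ 1 → tr θ ≠ 1 := fun θ hθ h => hθ (htr θ 1 (h.trans rfl))
  have htrinv : ∀ θ, tr θ⁻¹ = (tr θ)⁻¹ := fun θ => rfl
  set θ₁ : Tb.K →* ℂˣ := θ₀.comp e.toMonoidHom with hθ₁
  have hθ₁' : tr θ₁ = θ₀ := MonoidHom.ext fun y => by simp [tr, hθ₁]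
  have hu' : ∀ (χ : IrrCharacter G) (u : ℤ), (∀ y : Tb.K, y ≠ 1 → (χ : G → ℂ) (t * ((y : E) : G)) = u) →
      ∀ y : Φ.K, y ≠ 1 → (χ : G → ℂ) (t * (y : G)) = u := fun χ u hu y hy => by
    rw [← hec y]; exact hu _ fun h => hy (by simpa using congrArg e h)
  have hodd : ∀ (ψ : E → ℂ), IsSpecial ψ → ∀ y : Φ.K,
      ∑ χ : IrrCharacter G, coord t E χ ψ * (χ : G → ℂ) (y : G) = 0 := fun ψ hψ y =>
    SF.odd_sum ψ hψ _ (Φ.K_odd y.2)
  have hsec : ∀ (ψ : E → ℂ), IsSpecial ψ → ∀ y : Φ.K,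
      ∑ χ : IrrCharacter G, coord t E χ ψ * (χ : G → ℂ) (t * (y : G)) = 2 * ψ ((e.symm y : Tb.K) : E) := by
    intro ψ hψ y
    have := SF.section_sum ψ hψ ((e.symm y : Tb.K) : E) ((Tb.comm _).1 (e.symm y).2).1
    rwa [hec] at this
  have hne1 : ∀ y : Φ.K, y ≠ 1 → ((e.symm y : Tb.K) : E) ≠ 1 := fun y hy h => hy (by
    simpa using congrArg e (Subtype.ext h : e.symm y = 1))
  have hconst : ∀ (ψ : E → ℂ) (c : ℂ), IsSpecial ψ → (∀ y ∈ Tb.K, y ≠ 1 → ψ y = c) → ∀ θ, θ ≠ 1 → ∀ i,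
      ∑ χ : IrrCharacter G, (Φ.mlt i (tr θ) χ : ℂ) * coord t E χ ψ = if i = 0 then -3 * (2 * c) / 4 else 2 * c / 4 :=
    fun ψ c hψ hc θ hθ i => Φ.sum_mlt_const i (htr1 θ hθ) _ (2 * c)
      (fun y hy => by rw [hsec ψ hψ, hc _ (e.symm y).2 (hne1 y hy)]) (hodd ψ hψ)
  have hphi : ∀ θ', θ' ≠ 1 → ∀ (θ : Φ.K →* ℂˣ) (i : Fin 4),
      ∑ χ : IrrCharacter G, (Φ.mlt i θ χ : ℂ) * coord t E χ (Tb.phi θ') =
        (sgn i (-1, 1) : ℂ) * ((if (tr θ').comp (Φ.cj 0) = θ then 1 else 0) +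
            if (tr θ')⁻¹.comp (Φ.cj 0) = θ then 1 else 0) +
        (sgn i (1, -1) : ℂ) * ((if (tr θ').comp (Φ.cj 2) = θ then 1 else 0) +
            if (tr θ')⁻¹.comp (Φ.cj 2) = θ then 1 else 0) +
        (sgn i (-1, -1) : ℂ) * ((if (tr θ').comp (Φ.cj 1) = θ then 1 else 0) +
            if (tr θ')⁻¹.comp (Φ.cj 1) = θ then 1 else 0) := by
    intro θ' hθ' θ i
    obtain ⟨hsp, -, -, -, -, -, hval⟩ := Tb.phi_spec θ' hθ'
    refine Φ.sum_mlt_torus i θ (htr1 θ' hθ') _ (fun y hy => ?_) (hodd _ hsp)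
    rw [hsec _ hsp, hval _ (e.symm y).2 (hne1 y hy)]
    show 2 * (2 * _) = _
    simp only [tr, MonoidHom.comp_apply, MulEquiv.coe_toMonoidHom]
    ring
  have hinvflip : ∀ {θ : Φ.K →* ℂˣ}, θ ≠ 1 → ∀ n, θ⁻¹.comp (Φ.cj n) ≠ θ := fun {θ} hθ n h =>
    Φ.comp_cj_ne_inv hθ n (MonoidHom.ext fun y => by
      have hy := DFunLike.congr_fun h y
      simp only [MonoidHom.comp_apply, MonoidHom.inv_apply] at hy ⊢
      rw [← hy, inv_inv])
  refine ⟨Φ, hΦv, hmv, e, hec, {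
    a := fun i θ χ => Φ.mlt i (tr θ) χ
    θ₀ := θ₁
    θ₀_ne := fun h => hθ₀ne (by rw [← hθ₁', h]; rfl)
    big := hcard ▸ Φ.seven_le hmv
    rel := fun χ u hu θ hθ i hi => Φ.mlt_rel χ u (hu' χ u hu) (htr1 θ hθ) hi
    congr := ?c_congr
    one := fun χ hχ θ hθ i => Φ.mlt_one i (htr1 θ hθ) χ hχ
    at_one := fun θ _ i => Φ.sum_mlt_involution i (tr θ) (one_mul 1)
    at_t := fun θ _ i => Φ.sum_mlt_involution i (tr θ) Φ.tt
    norm := ?c_norm
    norm_zero := ?c_norm_zero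
    inner_theta := ?c_inner_theta
    inner_four := ?c_inner_four
    inner_zero := ?c_inner_zero
    target_x := ?c_target_x
    target_al := ?c_target_al
    target_be := ?c_target_be
    target_psi := ?c_target_psi
    phi_sum := ?c_phi_sum
    phi_ne := ?c_phi_ne
    phi_ne_zero := ?c_phi_ne_zero
    count := ?c_count
    count_zero := ?c_count_zero }, rfl⟩
  case c_congr =>
    intro χ u α hu hα
    rw [hcard]
    refine Φ.mlt_congr χ u α (hu' χ u hu) fun θ hθ => ?_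
    have e' : tr (θ.comp e.toMonoidHom) = θ := MonoidHom.ext fun y => by simp [tr]
    rw [← e']
    exact hα _ fun h => hθ (by rw [← e', h]; rfl)
  case c_norm =>
    intro θ hθ i hi
    have h := Φ.sum_same hmv hi (htr1 θ hθ) (htr1 θ hθ)
    rw [if_pos rfl, if_neg (Φ.inv_ne (htr1 θ hθ))] at h
    simp only [pow_two]
    exact_mod_cast h.trans (by norm_num : ((1 : ℂ) + 1) + (0 + 1) = ((3 : ℤ) : ℂ))
  case c_norm_zero =>
    have h := Φ.sum_moved hmv 0 0 hθ₀ne hθ₀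
    simp only [table_triv, Fin.sum_univ_three] at h
    simp only [pow_two, hθ₁']
    exact_mod_cast h.trans (by norm_num : _ = ((7 : ℤ) : ℂ))
  case c_inner_theta =>
    intro θ θ' hθ hθ' hne hni i hi
    have h := Φ.sum_same hmv hi (htr1 θ hθ) (htr1 θ' hθ')
    rw [if_neg fun he => hne (htr _ _ he), if_neg fun he => hni (by
      rw [← inv_inv θ']
      exact congrArg _ (htr θ'⁻¹ θ (by rw [htrinv, he])))] at h
    exact_mod_cast h.trans (by norm_num : ((0 : ℂ) + 1) + (0 + 1) = ((2 : ℤ) : ℂ))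
  case c_inner_four =>
    intro i j hi hj hij
    have h := Φ.sum_moved hmv i j hθ₀ne hθ₀
    rw [table_zero, if_neg hij, ← Int.cast_sum, table_total i j hi hj] at h
    simp only [hθ₁']
    exact_mod_cast h.trans (by norm_num : _ = ((2 : ℤ) : ℂ))
  case c_inner_zero =>
    intro i hi
    have h := Φ.sum_moved hmv i 0 hθ₀ne hθ₀
    simp only [table_mixed i _ hi, Fin.sum_univ_three] at h
    simp only [hθ₁']
    exact_mod_cast h.trans (by norm_num : _ = ((0 : ℤ) : ℂ))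
  case c_target_x =>
    intro θ hθ i
    rw [hconst _ 0 Tb.spec_x (fun y hy hy1 => (Tb.torus y hy hy1).2.2.1) θ hθ i]
    simp
  case c_target_al =>
    intro θ hθ i
    rw [hconst _ 2 Tb.spec_al (fun y hy hy1 => (Tb.torus y hy hy1).2.2.2.1) θ hθ i]
    split_ifs <;> norm_num
  case c_target_be =>
    intro θ hθ i
    rw [hconst _ 2 Tb.spec_be (fun y hy hy1 => (Tb.torus y hy hy1).2.2.2.2) θ hθ i]
    split_ifs <;> norm_num
  case c_target_psi =>
    intro θ hθ i j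
    rw [hconst _ 0 (Tb.psi_spec j).1 (fun y hy hy1 => (Tb.psi_spec j).2.2 y hy hy1) θ hθ i]
    simp
  case c_phi_sum =>
    intro θ' hθ'
    simp only [hphi θ' hθ', Fin.sum_univ_four]
    simp [sgn, sgnHom]
    ring
  case c_phi_ne =>
    intro θ hθ i hi
    have hμ := htr1 θ hθ
    rw [hphi θ hθ, Φ.cj_zero, MonoidHom.comp_id, MonoidHom.comp_id, if_pos rfl, if_neg (Φ.inv_ne hμ),
      if_neg (hinvflip hμ 2), if_neg (hinvflip hμ 1),
      if_congr (Φ.comp_cj_iff (tr θ)) rfl rfl]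
    rcases Frame.sgn_values i hi with ⟨h1, h2, h3⟩ | ⟨h1, h23⟩
    · rw [h1, h2, h3]
      split_ifs <;> norm_num
    · rw [h1, show sgn i (-1, -1) = -sgn i (1, -1) by omega]
      push_cast
      ring_nf
      norm_num
  case c_phi_ne_zero =>
    rw [hphi θ₁ (fun h => hθ₀ne (by rw [← hθ₁', h]; rfl)), hθ₁', Φ.cj_zero, MonoidHom.comp_id, MonoidHom.comp_id,
      if_pos rfl, if_neg (Φ.inv_ne hθ₀ne), if_neg (hinvflip hθ₀ne 2), if_neg (hinvflip hθ₀ne 1),
      if_congr (Φ.comp_cj_iff θ₀) rfl rfl]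
    simp only [sgn, sgnHom, MonoidHom.one_apply, Units.val_one, Int.cast_one, one_mul]
    split_ifs <;> norm_num
  case c_count =>
    intro θ hθ i hi
    rw [Φ.sum_mlt_count hmv SF.conj_all i (htr1 θ hθ), if_neg hi, mul_zero]
  case c_count_zero =>
    show ∑ χ : IrrCharacter G, (χ : G → ℂ) t ^ 2 * (Φ.mlt 0 (tr θ₁) χ : ℂ) / (χ : G → ℂ) 1 = _
    rw [hθ₁', Φ.sum_mlt_count hmv SF.conj_all 0 hθ₀ne, if_pos rfl]
    have hG : (Nat.card G : ℂ) = ((centralizer ({t} : Set G)).index : ℂ) *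
        (Nat.card (centralizer ({t} : Set G)) : ℂ) := by rw [← Nat.cast_mul, Subgroup.index_mul_card]
    have hC : (Nat.card (centralizer ({t} : Set G)) : ℂ) =
        (Fintype.card F : ℂ) * ((Fintype.card F : ℂ) ^ 2 - 1) := by
      have h := SF.order
      rw [← Subgroup.index_mul_card (centralizer ({t} : Set G))] at h
      rw [Nat.eq_of_mul_eq_mul_left (Nat.pos_of_ne_zero Subgroup.index_ne_zero_of_finite) h,
        Nat.cast_mul, Nat.cast_sub (Nat.one_le_pow _ _ Fintype.card_pos)]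
      push_cast
      rfl
    have hC0 : (Nat.card (centralizer ({t} : Set G)) : ℂ) ≠ 0 := by exact_mod_cast Nat.card_pos.ne'
    have hi0 : ((centralizer ({t} : Set G)).index : ℂ) ≠ 0 := by exact_mod_cast Subgroup.index_ne_zero_of_finite
    rw [hG]
    rcases hk with hk | hk
    · have hsc : signedCard F = (Fintype.card F : ℤ) := by
        rw [signedCard, if_pos]
        rcases H.mod with hm | hm
        · exfalso; obtain ⟨r, hr⟩ := Φ.odd_K; omega
        · exact hm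
      have hq : (Fintype.card F : ℂ) = 4 * (Nat.card Φ.K : ℂ) + 1 := by rw [hk]; push_cast; ring
      rw [hsc, Int.cast_natCast]
      field_simp
      rw [hC, hq]
      ring
    · have hsc : signedCard F = -(Fintype.card F : ℤ) := by
        rw [signedCard, if_neg]
        intro hm; obtain ⟨r, hr⟩ := Φ.odd_K; omega
      have hq : (Fintype.card F : ℂ) = 4 * (Nat.card Φ.K : ℂ) - 1 := by
        rw [eq_sub_iff_add_eq, ← Nat.cast_one, ← Nat.cast_add, hk]; push_cast; rfl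
      rw [hsc]
      push_cast
      field_simp
      rw [hC, hq]
      ring

/-- The target. -/
theorem torusFun (H : Setting t E F) (Tb : PSLTable E (signedCard F)) (SF : SectFacts t E F) :
    Nonempty (TorusFun (t := t) Tb) :=
  let ⟨_, _, _, _, _, TF, _⟩ := torusFun_frame H Tb SF
  ⟨TF⟩

/-- The piece `R-torus`. -/
theorem torusSpec : TorusSpec.{u, v} := fun _ _ _ _ _ _ _ _ _ H Tb SF => torusFun H Tb SF

end Main

end Cfsg.Lib.Ree
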