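import Cfsg.Agent.Ree.Torus.Central

/-!
The group `V × K` inside `G`, its conjugates and its inverting involutions, when the element of order three moves
an element of `K`.
-/

set_option autoImplicit false
set_option linter.style.haveILetI false
set_option linter.unusedSectionVars false

namespace Cfsg.Lib.Ree

open Subgroup

universe u

/-- The abstract four-group. -/
abbrev Four := ℤˣ × ℤˣ

/-- The cycle of `(-1, 1)`, `(1, -1)`, `(-1, -1)`. -/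
def rot (w : Four) : Four := (w.2, w.1 * w.2)

/-- The power of the cycle taking `w` to `(-1, 1)`. -/
def back (w : Four) : ℕ := if w.2 = 1 then 0 else if w.1 = 1 then 2 else 1

theorem four_cases : ∀ w : Four, w = 1 ∨ w = (-1, 1) ∨ w = (1, -1) ∨ w = (-1, -1) := by decide

theorem four_sq : ∀ w : Four, w * w = 1 := by decide

variable {G : Type u} [Group G]

namespace Frame

variable {t : G} (Φ : Frame t)

/-- The element of order three moves an element of `K`. -/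
def Moved : Prop := ∃ y ∈ Φ.K, ¬ Commute Φ.m y

include Φ in
/-- The homomorphism sending `-1` to an involution. -/
def homT : ℤˣ →* G where
  toFun a := if a = 1 then 1 else t
  map_one' := by simp
  map_mul' a b := by
    rcases Int.units_eq_one_or a with rfl | rfl <;> rcases Int.units_eq_one_or b with rfl | rfl <;>
      simp [Φ.tt]

/-- The homomorphism sending `-1` to `v`. -/
def homv : ℤˣ →* G where
  toFun a := if a = 1 then 1 else Φ.v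
  map_one' := by simp
  map_mul' a b := by
    rcases Int.units_eq_one_or a with rfl | rfl <;> rcases Int.units_eq_one_or b with rfl | rfl <;>
      simp [Φ.vv]

/-- The parametrization of `V`. -/
def vel : Four →* G :=
  MonoidHom.noncommCoprod Φ.homT Φ.homv fun a b => by
    show Commute (if a = 1 then (1 : G) else t) (if b = 1 then 1 else Φ.v)
    split_ifs
    exacts [Commute.one_left _, Commute.one_left _, Commute.one_right _, Φ.tv]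

theorem vel_tee : Φ.vel (-1, 1) = t := by simp [vel, homT, homv]

theorem vel_vee : Φ.vel (1, -1) = Φ.v := by simp [vel, homT, homv]

theorem vel_tv : Φ.vel (-1, -1) = t * Φ.v := by simp [vel, homT, homv]

theorem vel_mem (w : Four) : Φ.vel w ∈ Φ.V := by
  rcases four_cases w with rfl | rfl | rfl | rfl
  · rw [map_one]; exact one_mem _
  · rw [vel_tee]; exact Φ.t_mem
  · rw [vel_vee]; exact Φ.v_mem
  · rw [vel_tv]; exact Φ.tv_mem

theorem exists_vel {x : G} (hx : x ∈ Φ.V) : ∃ w, Φ.vel w = x := by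
  rcases hx with rfl | rfl | rfl | rfl
  exacts [⟨1, map_one _⟩, ⟨_, Φ.vel_tee⟩, ⟨_, Φ.vel_vee⟩, ⟨_, Φ.vel_tv⟩]

theorem vel_eq_one {w : Four} (h : Φ.vel w = 1) : w = 1 := by
  rcases four_cases w with rfl | rfl | rfl | rfl
  · rfl
  · rw [vel_tee] at h; exact absurd h Φ.t_ne
  · rw [vel_vee] at h; exact absurd h Φ.v_ne_one
  · rw [vel_tv] at h; exact absurd h Φ.tv_ne

theorem vel_rot (w : Four) : Φ.vel (rot w) = Φ.m * Φ.vel w * Φ.m⁻¹ := by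
  rcases four_cases w with rfl | rfl | rfl | rfl
  · simp [rot, show ((1, 1) : Four) = 1 from rfl]
  · rw [vel_tee, Φ.m_t]; exact Φ.vel_vee
  · rw [vel_vee, Φ.m_v]; exact Φ.vel_tv
  · rw [vel_tv, Φ.m_tv]; exact Φ.vel_tee

theorem vel_rot_iter (i : ℕ) (w : Four) : Φ.vel (rot^[i] w) = Φ.m ^ i * Φ.vel w * (Φ.m ^ i)⁻¹ := by
  induction i with
  | zero => simp
  | succ i ih => rw [Function.iterate_succ_apply', vel_rot, ih, pow_succ']; group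

theorem vel_back {w : Four} (hw : w ≠ 1) : Φ.m ^ back w * Φ.vel w * (Φ.m ^ back w)⁻¹ = t := by
  rcases four_cases w with rfl | rfl | rfl | rfl
  · exact absurd rfl hw
  · rw [vel_tee]; simp [back]
  · rw [vel_vee, show back (1, -1) = 2 by decide, pow_two,
      show Φ.m * Φ.m * Φ.v * (Φ.m * Φ.m)⁻¹ = Φ.m * (Φ.m * Φ.v * Φ.m⁻¹) * Φ.m⁻¹ by group, Φ.m_v, Φ.m_tv]
  · rw [vel_tv, show back (-1, -1) = 1 by decide, pow_one, Φ.m_tv]

/-- The parametrization of `T0`. -/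
def emb : Four × Φ.K →* G :=
  MonoidHom.noncommCoprod Φ.vel Φ.K.subtype fun w y => Φ.V_comm_K (Φ.vel_mem w) y.2

theorem emb_apply (x : Four × Φ.K) : Φ.emb x = Φ.vel x.1 * x.2 := rfl

theorem emb_mem (x : Four × Φ.K) : Φ.emb x ∈ Φ.T0 := Φ.mul_mem_T0 (Φ.vel_mem _) x.2.2

theorem exists_emb {g : G} (hg : g ∈ Φ.T0) : ∃ x, Φ.emb x = g := by
  obtain ⟨w, hw, y, hy, rfl⟩ := hg
  obtain ⟨a, rfl⟩ := Φ.exists_vel hw
  exact ⟨(a, ⟨y, hy⟩), rfl⟩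

theorem emb_injective : Function.Injective Φ.emb := by
  rw [injective_iff_map_eq_one]
  rintro ⟨w, y⟩ h
  rw [emb_apply] at h
  obtain ⟨h1, h2⟩ := Φ.split_unique (Φ.vel_mem w) (one_mem _) y.2 (one_mem _) (by rw [h, one_mul])
  exact Prod.ext (Φ.vel_eq_one h1) (Subtype.ext h2)

/-- Conjugation by a power of `m` on `K`. -/
def cj (i : ℕ) : Φ.K →* Φ.K where
  toFun y := ⟨Φ.m ^ i * y * (Φ.m ^ i)⁻¹, Φ.conjPow_K y.2 i⟩
  map_one' := Subtype.ext (by simp)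
  map_mul' y y' := Subtype.ext (by push_cast; group)

theorem cj_coe (i : ℕ) (y : Φ.K) : (Φ.cj i y : G) = Φ.m ^ i * y * (Φ.m ^ i)⁻¹ := rfl

theorem cj_zero : Φ.cj 0 = MonoidHom.id Φ.K := MonoidHom.ext fun y => Subtype.ext (by simp [cj])

theorem cj_comp (i j : ℕ) : (Φ.cj i).comp (Φ.cj j) = Φ.cj (i + j) := by
  refine MonoidHom.ext fun y => Subtype.ext ?_
  show Φ.m ^ i * (Φ.m ^ j * y * (Φ.m ^ j)⁻¹) * (Φ.m ^ i)⁻¹ = Φ.m ^ (i + j) * y * (Φ.m ^ (i + j))⁻¹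
  rw [pow_add]; group

theorem cj_mod (i : ℕ) : Φ.cj i = Φ.cj (i % 3) := MonoidHom.ext fun y => Subtype.ext (by
  rw [cj_coe, cj_coe, ← Φ.m_pow_mod])

theorem cj_bij (i : ℕ) : Function.Bijective (Φ.cj i) := by
  have h : ∀ a b : ℕ, (a + b) % 3 = 0 → ∀ y, Φ.cj a (Φ.cj b y) = y := fun a b hab y => by
    rw [← MonoidHom.comp_apply, cj_comp, cj_mod, hab, cj_zero]; rfl
  exact ⟨Function.LeftInverse.injective (h (2 * i) i (by omega)),
    fun y => ⟨Φ.cj (2 * i) y, h i (2 * i) (by omega) y⟩⟩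

/-- Inversion, when `b`, on `K`. -/
def ivh (b : Bool) : Φ.K →* Φ.K where
  toFun y := if b then y⁻¹ else y
  map_one' := by cases b <;> simp
  map_mul' y y' := by
    cases b
    · simp
    · simp only [if_true, mul_inv_rev]
      exact Subtype.ext ((Φ.K_comm (inv_mem y'.2) (inv_mem y.2)).eq)

/-- The action of a coset representative on `K`. -/
def act (p : Fin 3 × Bool) : Φ.K →* Φ.K := (Φ.cj p.1).comp (Φ.ivh p.2)

/-- The action of a coset representative on `V × K`. -/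
def sig (p : Fin 3 × Bool) (x : Four × Φ.K) : Four × Φ.K := (rot^[(p.1 : ℕ)] x.1, Φ.act p x.2)

/-- The coset representatives of `T0` in `N(V)`. -/
def rep (p : Fin 3 × Bool) : G := Φ.m ^ (p.1 : ℕ) * if p.2 then Φ.z else 1

theorem rep_conj (p : Fin 3 × Bool) (x : Four × Φ.K) :
    Φ.rep p * Φ.emb x * (Φ.rep p)⁻¹ = Φ.emb (Φ.sig p x) := by
  obtain ⟨i, b⟩ := p
  obtain ⟨w, y⟩ := x
  rw [emb_apply, emb_apply]
  show _ = Φ.vel (rot^[(i : ℕ)] w) * (Φ.cj i (Φ.ivh b y) : G)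
  rw [vel_rot_iter, cj_coe]
  cases b
  · simp only [rep, ivh, MonoidHom.coe_mk, OneHom.coe_mk, Bool.false_eq_true, if_false]
    group
  · have h1 := Φ.conjz_V (Φ.vel_mem w)
    have h2 := Φ.inv _ y.2
    simp only [rep, ivh, MonoidHom.coe_mk, OneHom.coe_mk, if_true, InvMemClass.coe_inv]
    rw [← h2]
    nth_rw 2 [← h1]
    group

theorem rep_t (p : Fin 3 × Bool) : Φ.rep p * t * (Φ.rep p)⁻¹ = Φ.m ^ (p.1 : ℕ) * t * (Φ.m ^ (p.1 : ℕ))⁻¹ := by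
  obtain ⟨i, b⟩ := p
  cases b
  · simp [rep]
  · simp only [rep, if_true]
    rw [show Φ.m ^ (i : ℕ) * Φ.z * t * (Φ.m ^ (i : ℕ) * Φ.z)⁻¹ =
      Φ.m ^ (i : ℕ) * (Φ.z * t * Φ.z⁻¹) * (Φ.m ^ (i : ℕ))⁻¹ by group, Φ.conjz_V Φ.t_mem]

theorem rep_inj {p p' : Fin 3 × Bool} {x x' : Four × Φ.K} (h : Φ.rep p * Φ.emb x = Φ.rep p' * Φ.emb x') :
    p = p' ∧ x = x' := by
  have hfix : ∀ x, Φ.emb x * t * (Φ.emb x)⁻¹ = t := fun x => by
    rw [(Φ.T0_t (Φ.emb_mem x)).eq, mul_inv_cancel_right]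
  have e : Φ.rep p * t * (Φ.rep p)⁻¹ = Φ.rep p' * t * (Φ.rep p')⁻¹ := by
    have h1 : ∀ (p : Fin 3 × Bool) (x : Four × Φ.K), (Φ.rep p * Φ.emb x) * t * (Φ.rep p * Φ.emb x)⁻¹ =
        Φ.rep p * t * (Φ.rep p)⁻¹ := fun p x => by
      rw [show (Φ.rep p * Φ.emb x) * t * (Φ.rep p * Φ.emb x)⁻¹ =
        Φ.rep p * (Φ.emb x * t * (Φ.emb x)⁻¹) * (Φ.rep p)⁻¹ by group, hfix]
    rw [← h1 p x, h, h1]
  rw [rep_t, rep_t] at e
  obtain ⟨i, b⟩ := p
  obtain ⟨i', b'⟩ := p'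
  dsimp only at e
  have hi : i = i' := by
    have h0 := Φ.m_not_fix ((3 - (i' : ℕ)) + i) (by
      rw [pow_add, show Φ.m ^ (3 - (i' : ℕ)) * Φ.m ^ (i : ℕ) * t * (Φ.m ^ (3 - (i' : ℕ)) * Φ.m ^ (i : ℕ))⁻¹ =
        Φ.m ^ (3 - (i' : ℕ)) * (Φ.m ^ (i : ℕ) * t * (Φ.m ^ (i : ℕ))⁻¹) * (Φ.m ^ (3 - (i' : ℕ)))⁻¹ by group, e]
      rw [show Φ.m ^ (3 - (i' : ℕ)) * (Φ.m ^ (i' : ℕ) * t * (Φ.m ^ (i' : ℕ))⁻¹) * (Φ.m ^ (3 - (i' : ℕ)))⁻¹ =
        (Φ.m ^ (3 - (i' : ℕ)) * Φ.m ^ (i' : ℕ)) * t * (Φ.m ^ (3 - (i' : ℕ)) * Φ.m ^ (i' : ℕ))⁻¹ by group, ← pow_add,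
        show 3 - (i' : ℕ) + i' = orderOf Φ.m by rw [Φ.m_ord]; omega, pow_orderOf_eq_one]
      simp)
    exact Fin.ext (by omega)
  subst hi
  have hz : ∀ y y' : Four × Φ.K, Φ.z * Φ.emb y ≠ Φ.emb y' := fun y y' he => Φ.z_T0 (by
    rw [eq_mul_inv_of_mul_eq he]
    exact mul_mem (Φ.emb_mem y') (inv_mem (Φ.emb_mem y)))
  cases b <;> cases b' <;> simp only [rep, Bool.false_eq_true, if_false, if_true, mul_one, mul_assoc] at h <;>
    have h' := mul_left_cancel h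
  · exact ⟨rfl, Φ.emb_injective h'⟩
  · exact absurd h'.symm (hz x' x)
  · exact absurd h' (hz x x')
  · exact ⟨rfl, Φ.emb_injective (mul_left_cancel h')⟩

theorem exists_rep [Finite G] {g : G} (hg : ∀ w ∈ Φ.V, g * w * g⁻¹ ∈ Φ.V) :
    ∃ p x, g = Φ.rep p * Φ.emb x := by
  obtain ⟨i, hi, h1, h2⟩ := Φ.norm_V hg
  rcases Φ.cenV h1 h2 with h | h
  · obtain ⟨x, hx⟩ := Φ.exists_emb h
    exact ⟨(⟨i, hi⟩, false), x, by simp [rep, hx]⟩
  · obtain ⟨x, hx⟩ := Φ.exists_emb h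
    refine ⟨(⟨i, hi⟩, true), Φ.sig (0, true) x, ?_⟩
    rw [← rep_conj, hx]
    simp only [rep, Fin.val_zero, pow_zero, one_mul, if_true]
    rw [show Φ.m ^ i * Φ.z * (Φ.z * ((Φ.m ^ i)⁻¹ * g * Φ.z) * Φ.z⁻¹) =
      Φ.m ^ i * ((Φ.z * Φ.z) * ((Φ.m ^ i)⁻¹ * g)) by group, Φ.zz, one_mul, mul_inv_cancel_left]

variable [Finite G]

theorem tame (hmv : Φ.Moved) {y x : G} (hy : y ∈ Φ.K) (hy1 : y ≠ 1) (hxy : Commute x y) :
    ∀ w ∈ Φ.V, x * w * x⁻¹ ∈ Φ.V := by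
  rcases Φ.cent_cases hy hy1 with h | ⟨hmy, π, hsur, hker⟩
  · exact h x hxy
  · obtain ⟨y', hy', h⟩ := hmv
    exact absurd (Φ.comm_of_five hy hsur hker _ hmy y' hy') h

theorem sq_ne {y : Φ.K} (hy : y ≠ 1) : (y : G) * y ≠ 1 := fun h => hy (Subtype.ext (eq_one_of_odd_sq (Φ.K_odd y.2) h))

theorem emb_sq (x : Four × Φ.K) : Φ.emb x * Φ.emb x = (x.2 : G) * x.2 := by
  rw [← map_mul, emb_apply]
  show Φ.vel (x.1 * x.1) * _ = _
  rw [four_sq, map_one, one_mul]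
  rfl

/-- Conjugate elements of `T0 ∖ V` are conjugate by the normalizer of `V`. -/
theorem conj_norm (hmv : Φ.Moved) {a b : Four × Φ.K} (ha : a.2 ≠ 1) {g : G}
    (hg : g * Φ.emb a * g⁻¹ = Φ.emb b) : b.2 ≠ 1 ∧ ∀ w ∈ Φ.V, g * w * g⁻¹ ∈ Φ.V := by
  have h2 : g * ((a.2 : G) * a.2) * g⁻¹ = (b.2 : G) * b.2 := by
    rw [← emb_sq, ← emb_sq, ← hg]; group
  have hb : b.2 ≠ 1 := fun e => Φ.sq_ne ha (by
    rw [e] at h2
    simpa [mul_inv_eq_one] using h2)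
  refine ⟨hb, fun w hw => ?_⟩
  have hc : Commute (g * w * g⁻¹) ((b.2 : G) * b.2) := by
    rw [← h2]
    exact ((Φ.V_comm_K hw a.2.2).mul_right (Φ.V_comm_K hw a.2.2)).map (MulAut.conj g).toMonoidHom
  refine Φ.mem_V_of_norm (mul_mem b.2.2 b.2.2) (Φ.sq_ne hb) (Φ.tame hmv (mul_mem b.2.2 b.2.2) (Φ.sq_ne hb) hc) hc ?_
  rw [show g * w * g⁻¹ * (g * w * g⁻¹) = g * (w * w) * g⁻¹ by group, Φ.V_sq hw]
  group

/-- The conjugating elements. -/
theorem card_conj (hmv : Φ.Moved) {a : Four × Φ.K} (ha : a.2 ≠ 1) (b : Four × Φ.K) :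
    Nat.card {g : G // g * Φ.emb a * g⁻¹ = Φ.emb b} =
      Nat.card {p : Fin 3 × Bool // Φ.sig p a = b} * Nat.card (Four × Φ.K) := by
  rw [← Nat.card_prod]
  have hval : ∀ p x, Φ.rep p * Φ.emb x * Φ.emb a * (Φ.rep p * Φ.emb x)⁻¹ = Φ.emb (Φ.sig p a) := fun p x => by
    rw [show Φ.rep p * Φ.emb x * Φ.emb a * (Φ.rep p * Φ.emb x)⁻¹ =
      Φ.rep p * (Φ.emb x * Φ.emb a * (Φ.emb x)⁻¹) * (Φ.rep p)⁻¹ by group,
      (Φ.T0_comm (Φ.emb_mem x) (Φ.emb_mem a)).eq, mul_inv_cancel_right, rep_conj]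
  refine (Nat.card_congr (Equiv.ofBijective
    (fun q : {p : Fin 3 × Bool // Φ.sig p a = b} × (Four × Φ.K) =>
      (⟨Φ.rep q.1.1 * Φ.emb q.2, by rw [hval, q.1.2]⟩ : {g : G // g * Φ.emb a * g⁻¹ = Φ.emb b})) ⟨?_, ?_⟩)).symm
  · rintro ⟨⟨p, hp⟩, x⟩ ⟨⟨p', hp'⟩, x'⟩ h
    obtain ⟨rfl, rfl⟩ := Φ.rep_inj (congrArg Subtype.val h)
    rfl
  · rintro ⟨g, hg⟩
    obtain ⟨p, x, rfl⟩ := Φ.exists_rep (Φ.conj_norm hmv ha hg).2
    rw [hval] at hg
    exact ⟨(⟨p, Φ.emb_injective hg⟩, x), rfl⟩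

/-- The involutions inverting an element of `T0 ∖ V`. -/
theorem card_inverting (hmv : Φ.Moved) {a : Four × Φ.K} (ha : a.2 ≠ 1) :
    Nat.card {s : G // s * s = 1 ∧ s ≠ 1 ∧ (s * Φ.emb a) * (s * Φ.emb a) = 1 ∧ s * Φ.emb a ≠ 1} =
      Nat.card (Four × Φ.K) := by
  have hz2 : ∀ x : Four × Φ.K, Φ.z * Φ.emb x * (Φ.z * Φ.emb x) = 1 := fun x => by
    have h := Φ.rep_conj (0, true) x
    simp only [rep, Fin.val_zero, pow_zero, one_mul, if_true] at h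
    rw [inv_eq_of_mul_eq_one_right Φ.zz] at h
    rw [show Φ.z * Φ.emb x * (Φ.z * Φ.emb x) = Φ.z * Φ.emb x * Φ.z * Φ.emb x by group, h, ← map_mul]
    refine (congrArg Φ.emb (Prod.ext (four_sq x.1) ?_)).trans (map_one _)
    simp [sig, act, ivh, cj_zero]
  have hzne : ∀ x : Four × Φ.K, Φ.z * Φ.emb x ≠ 1 := fun x h => Φ.z_T0 (by
    rw [eq_inv_of_mul_eq_one_left h]; exact inv_mem (Φ.emb_mem x))
  refine (Nat.card_congr (Equiv.ofBijective (fun x : Four × Φ.K =>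
    (⟨Φ.z * Φ.emb x, hz2 x, hzne x, by rw [mul_assoc Φ.z (Φ.emb x) (Φ.emb a), ← map_mul]; exact hz2 _,
      by rw [mul_assoc Φ.z (Φ.emb x) (Φ.emb a), ← map_mul]; exact hzne _⟩ :
      {s : G // s * s = 1 ∧ s ≠ 1 ∧ (s * Φ.emb a) * (s * Φ.emb a) = 1 ∧ s * Φ.emb a ≠ 1})) ⟨?_, ?_⟩)).symm
  · intro x x' h
    exact Φ.emb_injective (mul_left_cancel (congrArg Subtype.val h))
  · rintro ⟨s, hs, hs1, hsa, hsa1⟩
    have hsi : s⁻¹ = s := inv_eq_of_mul_eq_one_right hs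
    have hinv : s * Φ.emb a * s⁻¹ = Φ.emb a⁻¹ := by
      rw [hsi, map_inv]
      exact eq_inv_of_mul_eq_one_left (by rw [← hsa]; group)
    have hn := (Φ.conj_norm hmv ha hinv).2
    obtain ⟨⟨i, b⟩, x, hsx⟩ := Φ.exists_rep hn
    have hrot : ∀ w ∈ Φ.V, s * w * s⁻¹ = Φ.m ^ (i : ℕ) * w * (Φ.m ^ (i : ℕ))⁻¹ := fun w hw => by
      rw [hsx, show Φ.rep (i, b) * Φ.emb x * w * (Φ.rep (i, b) * Φ.emb x)⁻¹ =
        Φ.rep (i, b) * (Φ.emb x * w * (Φ.emb x)⁻¹) * (Φ.rep (i, b))⁻¹ by group,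
        (Φ.T0_comm (Φ.emb_mem x) (Φ.V_le_T0 hw)).eq, mul_inv_cancel_right]
      cases b
      · simp [rep]
      · simp only [rep, if_true]
        rw [show Φ.m ^ (i : ℕ) * Φ.z * w * (Φ.m ^ (i : ℕ) * Φ.z)⁻¹ =
          Φ.m ^ (i : ℕ) * (Φ.z * w * Φ.z⁻¹) * (Φ.m ^ (i : ℕ))⁻¹ by group, Φ.conjz_V hw]
    have hi : (i : ℕ) = 0 := by
      have h2 := hrot _ (Φ.conjPow_V Φ.t_mem i)
      rw [show s * (Φ.m ^ (i : ℕ) * t * (Φ.m ^ (i : ℕ))⁻¹) * s⁻¹ = t by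
        rw [← hrot t Φ.t_mem, show s * (s * t * s⁻¹) * s⁻¹ = (s * s) * t * (s * s)⁻¹ by group, hs]; simp] at h2
      have h3 := Φ.m_not_fix ((i : ℕ) + i) (by
        rw [pow_add, show Φ.m ^ (i : ℕ) * Φ.m ^ (i : ℕ) * t * (Φ.m ^ (i : ℕ) * Φ.m ^ (i : ℕ))⁻¹ =
          Φ.m ^ (i : ℕ) * (Φ.m ^ (i : ℕ) * t * (Φ.m ^ (i : ℕ))⁻¹) * (Φ.m ^ (i : ℕ))⁻¹ by group]
        exact h2.symm)
      omega
    have hi0 : i = 0 := Fin.ext hi
    subst hi0
    cases b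
    · -- an element of `T0` does not invert `a`
      exfalso
      rw [hsx] at hinv
      simp only [rep, Fin.val_zero, pow_zero, one_mul, Bool.false_eq_true, if_false] at hinv
      rw [(Φ.T0_comm (Φ.emb_mem x) (Φ.emb_mem a)).eq, mul_inv_cancel_right] at hinv
      have h := congrArg Prod.snd (Φ.emb_injective hinv)
      exact Φ.sq_ne ha (by
        have h' : (a.2 : G) = (a.2 : G)⁻¹ := congrArg Subtype.val h
        nth_rw 2 [h']
        exact mul_inv_cancel _)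
    · exact ⟨x, Subtype.ext (by simp [hsx, rep])⟩

/-- A nontrivial linear character of `K` is not moved to its inverse. -/
theorem comp_cj_ne_inv {θ : Φ.K →* ℂˣ} (hθ : θ ≠ 1) (i : ℕ) : θ.comp (Φ.cj i) ≠ θ⁻¹ := by
  intro h
  have h3 : ∀ y, θ (Φ.cj i (Φ.cj i (Φ.cj i y))) = θ y := fun y => by
    rw [← MonoidHom.comp_apply (Φ.cj i) (Φ.cj i), cj_comp, ← MonoidHom.comp_apply (Φ.cj (i + i)), cj_comp, cj_mod,
      show (i + i + i) % 3 = 0 by omega, cj_zero]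
    rfl
  have hc : ∀ y, θ (Φ.cj i y) = (θ y)⁻¹ := fun y => DFunLike.congr_fun h y
  refine hθ (MonoidHom.ext fun y => ?_)
  have hy := h3 y
  rw [hc, hc, hc, inv_inv] at hy
  refine eq_one_of_odd_sq ((Φ.K_odd y.2).of_dvd_nat ?_) (by nth_rw 1 [← hy]; exact inv_mul_cancel _)
  rw [orderOf_coe]
  exact orderOf_map_dvd θ y

theorem comp_cj_iff (θ : Φ.K →* ℂˣ) : θ.comp (Φ.cj 2) = θ ↔ θ.comp (Φ.cj 1) = θ := by
  constructor <;> intro h
  · rw [cj_mod]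
    show θ.comp (Φ.cj 1) = θ
    calc θ.comp (Φ.cj 1) = (θ.comp (Φ.cj 2)).comp (Φ.cj 2) := by
          rw [MonoidHom.comp_assoc, cj_comp, Φ.cj_mod (2 + 2)]
      _ = θ := by rw [h, h]
  · calc θ.comp (Φ.cj 2) = (θ.comp (Φ.cj 1)).comp (Φ.cj 1) := by rw [MonoidHom.comp_assoc, cj_comp]
      _ = θ := by rw [h, h]

theorem exists_moved_char (hmv : Φ.Moved) :
    ∃ θ : Φ.K →* ℂˣ, θ ≠ 1 ∧ ∀ p, θ.comp (Φ.act p) = θ → p = (0, false) := by
  haveI := Φ.cyclic_K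
  obtain ⟨y, hy, hne⟩ := hmv
  letI : CommGroup Φ.K := IsCyclic.commGroup
  set d : Φ.K := Φ.cj 1 ⟨y, hy⟩ * ⟨y, hy⟩⁻¹ with hd
  have hd1 : d ≠ 1 := fun e => hne (by
    rw [hd, mul_inv_eq_one] at e
    have e' := congrArg Subtype.val e
    simp only [cj_coe, pow_one] at e'
    exact mul_inv_eq_iff_eq_mul.1 e')
  obtain ⟨θ, hθ⟩ := CommGroup.exists_apply_ne_one_of_hasEnoughRootsOfUnity Φ.K ℂ hd1
  have h1 : θ ≠ 1 := fun e => hθ (by rw [e]; rfl)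
  have hmove : θ.comp (Φ.cj 1) ≠ θ := fun e => hθ (by
    rw [hd, map_mul, map_inv, mul_inv_eq_one]; exact DFunLike.congr_fun e _)
  refine ⟨θ, h1, ?_⟩
  rintro ⟨i, b⟩ h
  cases b
  · have h' : θ.comp (Φ.cj i) = θ := (MonoidHom.ext fun y => rfl).trans h
    fin_cases i
    · rfl
    · exact absurd h' hmove
    · exact absurd ((Φ.comp_cj_iff θ).1 h') hmove
  · exfalso
    refine Φ.comp_cj_ne_inv h1 i (MonoidHom.ext fun y => ?_)
    have h' := DFunLike.congr_fun h y⁻¹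
    simp only [act, ivh, MonoidHom.comp_apply, MonoidHom.coe_mk, OneHom.coe_mk, if_true, inv_inv] at h'
    rw [MonoidHom.comp_apply, h', map_inv]
    rfl

theorem seven_le (hmv : Φ.Moved) : 7 ≤ Nat.card Φ.K := by
  haveI := Φ.cyclic_K
  obtain ⟨y, hy, hne⟩ := hmv
  by_contra hlt
  obtain ⟨g, hg⟩ := IsCyclic.exists_generator (α := Φ.K)
  have hgo : orderOf g = Nat.card Φ.K := orderOf_eq_card_of_forall_mem_zpowers hg
  obtain ⟨j, hj⟩ := (isOfFinOrder_of_finite g).mem_powers_iff_mem_zpowers.2 (hg (Φ.cj 1 g))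
  have hiter : ∀ a : Φ.K, Φ.cj 1 a = a ^ j := fun a => by
    obtain ⟨l, rfl⟩ := hg a
    simp only [map_zpow]
    rw [← hj, ← zpow_natCast, ← zpow_mul, mul_comm, zpow_mul, zpow_natCast]
  have h3 : Φ.cj 1 (Φ.cj 1 (Φ.cj 1 g)) = g := by
    rw [← MonoidHom.comp_apply (Φ.cj 1) (Φ.cj 1), cj_comp, ← MonoidHom.comp_apply (Φ.cj (1 + 1)), cj_comp, cj_mod,
      cj_zero]
    rfl
  rw [hiter g, hiter, hiter, ← pow_mul, ← pow_mul, ← mul_assoc] at h3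
  have hmod : (j * j * j) % Nat.card Φ.K = 1 % Nat.card Φ.K := by
    rw [← hgo]
    exact pow_inj_mod.1 (h3.trans (pow_one g).symm)
  have hj1 : j % Nat.card Φ.K = 1 := by
    have h0 := Φ.three_le
    have h1 := Φ.odd_K
    rcases (show Nat.card Φ.K = 3 ∨ Nat.card Φ.K = 5 by rw [Nat.odd_iff] at h1; omega) with e | e <;> rw [e] at hmod ⊢
    · rw [Nat.mul_mod, Nat.mul_mod j j] at hmod
      have := Nat.mod_lt j (show 3 > 0 by norm_num)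
      interval_cases hr : j % 3 <;> simp_all
    · rw [Nat.mul_mod, Nat.mul_mod j j] at hmod
      have := Nat.mod_lt j (show 5 > 0 by norm_num)
      interval_cases hr : j % 5 <;> simp_all
  refine hne (mul_inv_eq_iff_eq_mul.1 ?_)
  have hfix := hiter ⟨y, hy⟩
  rw [← pow_mod_natCard, hj1, pow_one] at hfix
  simpa [cj_coe] using congrArg Subtype.val hfix

end Frame

end Cfsg.Lib.Ree
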