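import Cfsg.Agent.Ree.Torus.Func.Embed
import Cfsg.Agent.Ree.Section.Coords

/-!
The multiplicities of the functions `ν (θ - 1)` of `V × K` in the characters of `G`, and their sums.
-/

set_option autoImplicit false
set_option linter.style.haveILetI false
set_option linter.unusedSectionVars false

namespace Cfsg.Lib.Ree

open Cfsg Cfsg.Lib.Chars
open scoped ComplexConjugate

universe u

attribute [local instance] _root_.Classical.propDecidable

/-- The four characters of `V`; the kernel of the one with index `1` contains `(-1, 1)`. -/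
def sgnHom : Fin 4 → Four →* ℤˣ
  | 0 => 1
  | 1 => MonoidHom.snd ℤˣ ℤˣ
  | 2 => MonoidHom.fst ℤˣ ℤˣ
  | 3 => MonoidHom.fst ℤˣ ℤˣ * MonoidHom.snd ℤˣ ℤˣ

/-- The sign of an element of `V` under a character of `V`. -/
def sgn (i : Fin 4) (w : Four) : ℤ := (sgnHom i w : ℤ)

/-- The pairing of two characters of `V` after a rotation. -/
def table (i j : Fin 4) (r : Fin 3) : ℤ := ∑ w : Four, sgn i w * sgn j (rot^[(r : ℕ)] w)

theorem table_zero : ∀ i j : Fin 4, table i j 0 = if i = j then 4 else 0 := by decide +kernel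

theorem table_triv : ∀ r : Fin 3, table 0 0 r = 4 := by decide +kernel

theorem table_mixed : ∀ (i : Fin 4) (r : Fin 3), i ≠ 0 → table i 0 r = 0 := by decide +kernel

theorem table_total : ∀ i j : Fin 4, i ≠ 0 → j ≠ 0 → ∑ r : Fin 3, table i j r = 4 := by decide +kernel

theorem table_self : ∀ (i : Fin 4) (r : Fin 3), i ≠ 0 → r ≠ 0 → table i i r = 0 := by decide +kernel

theorem card_four : Nat.card Four = 4 := by simp

theorem lin_inv_val {A : Type u} [Group A] (θ : A →* ℂˣ) (y : A) : (θ y⁻¹ : ℂ) = (θ⁻¹ y : ℂ) := by simp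

open scoped _root_.Classical in
theorem sum_lin {A : Type u} [Group A] [Fintype A] (f : A →* ℂˣ) :
    ∑ a, (f a : ℂ) = if f = 1 then (Nat.card A : ℂ) else 0 := by
  split_ifs with h
  · subst h; exact Cfsg.Lib.ReeThree.sum_lin_one
  · exact Cfsg.Lib.ReeThree.sum_lin_eq_zero f h

theorem sum_sub_one {A : Type u} [Group A] [Fintype A] {θ : A →* ℂˣ} (hθ : θ ≠ 1) :
    ∑ y, conj ((θ y : ℂ) - 1) = -(Nat.card A : ℂ) := by
  rw [← map_sum, Finset.sum_sub_distrib, sum_lin, if_neg hθ]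
  simp [Nat.card_eq_fintype_card]

open scoped _root_.Classical in
theorem sum_pair_lin {A : Type u} [Group A] [Fintype A] (θ μ : A →* ℂˣ) :
    ∑ y, conj (θ y : ℂ) * (μ y : ℂ) = if μ = θ then (Nat.card A : ℂ) else 0 := by
  rw [Finset.sum_congr rfl fun y _ => show conj (θ y : ℂ) * (μ y : ℂ) = ((μ * θ⁻¹ : A →* ℂˣ) y : ℂ) by
    rw [show conj (θ y : ℂ) = (θ y⁻¹ : ℂ) from (IsCharacter.conj_inv (isCharacter_linear θ) y).symm, lin_inv_val, MonoidHom.mul_apply, Units.val_mul, mul_comm], sum_lin]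
  refine if_congr ?_ rfl rfl
  exact ⟨fun h => MonoidHom.ext fun a => mul_inv_eq_one.1 (DFunLike.congr_fun h a),
    fun h => MonoidHom.ext fun a => mul_inv_eq_one.2 (DFunLike.congr_fun h a)⟩

variable {G : Type u} [Group G] [Fintype G]

theorem sum_conj_eq_card (g h : G) :
    ∑ χ : IrrCharacter G, (χ : G → ℂ) g * conj ((χ : G → ℂ) h) = (Nat.card {c : G // c * g * c⁻¹ = h} : ℂ) := by
  classical
  rw [second_orthogonality]
  split_ifs with hc
  · obtain ⟨x, hx⟩ := isConj_iff.1 hc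
    rw [Nat.cast_inj]
    refine Nat.card_congr
      { toFun := fun c => ⟨x * c.1, ?_⟩
        invFun := fun c => ⟨x⁻¹ * c.1, ?_⟩
        left_inv := fun c => Subtype.ext (inv_mul_cancel_left x c.1)
        right_inv := fun c => Subtype.ext (mul_inv_cancel_left x c.1) }
    · rw [show x * c.1 * g * (x * c.1)⁻¹ = x * (c.1 * g) * c.1⁻¹ * x⁻¹ by group,
        Subgroup.mem_centralizer_singleton_iff.1 c.2, show x * (g * c.1) * c.1⁻¹ * x⁻¹ = x * g * x⁻¹ by group, hx]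
    · refine Subgroup.mem_centralizer_singleton_iff.2 ?_
      calc x⁻¹ * c.1 * g = x⁻¹ * (c.1 * g * c.1⁻¹) * c.1 := by group
        _ = x⁻¹ * (x * g * x⁻¹) * c.1 := by rw [show c.1 * g * c.1⁻¹ = x * g * x⁻¹ from c.2.trans hx.symm]
        _ = g * (x⁻¹ * c.1) := by group
  · haveI : IsEmpty {c : G // c * g * c⁻¹ = h} := ⟨fun c => hc (isConj_iff.2 ⟨c.1, c.2⟩)⟩
    simp

namespace Frame

variable {t : G} (Φ : Frame t)

/-- The function on `V × K`. -/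
noncomputable def fn (i : Fin 4) (θ : Φ.K →* ℂˣ) (x : Four × Φ.K) : ℂ := (sgn i x.1 : ℂ) * ((θ x.2 : ℂ) - 1)

theorem fn_zero (i : Fin 4) (θ : Φ.K →* ℂˣ) {x : Four × Φ.K} (hx : x.2 = 1) : Φ.fn i θ x = 0 := by simp [fn, hx]

theorem conj_fn (i : Fin 4) (θ : Φ.K →* ℂˣ) (x : Four × Φ.K) :
    conj (Φ.fn i θ x) = (sgn i x.1 : ℂ) * conj ((θ x.2 : ℂ) - 1) := by rw [fn, map_mul, map_intCast]

/-- The multiplicity, as a complex number. -/
noncomputable def mul' (i : Fin 4) (θ : Φ.K →* ℂˣ) (χ : IrrCharacter G) : ℂ :=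
  classInner (fun x : Four × Φ.K => (χ : G → ℂ) (Φ.emb x)) (Φ.fn i θ)

theorem exists_mul (i : Fin 4) (θ : Φ.K →* ℂˣ) (χ : IrrCharacter G) : ∃ z : ℤ, Φ.mul' i θ χ = z := by
  set s : Four × Φ.K →* ℂˣ :=
    ((Units.map (Int.castRingHom ℂ).toMonoidHom).comp (sgnHom i)).comp (MonoidHom.fst Four Φ.K) with hs
  have hc := IsCharacter.comp_hom (isCharacter_of_irr χ.2) Φ.emb
  obtain ⟨n, hn⟩ := IsCharacter.exists_mult hc (isIrrCharacter_linear (s * θ.comp (MonoidHom.snd Four Φ.K)))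
  obtain ⟨n', hn'⟩ := IsCharacter.exists_mult hc (isIrrCharacter_linear s)
  refine ⟨(n : ℤ) - n', ?_⟩
  have e : Φ.fn i θ = (fun x => ((s * θ.comp (MonoidHom.snd Four Φ.K)) x : ℂ)) - fun x => (s x : ℂ) := by
    funext x
    simp [fn, hs, sgn]
    ring
  rw [mul', e, classInner_sub_right, hn, hn']
  push_cast
  rfl

/-- The multiplicity. -/
noncomputable def mlt (i : Fin 4) (θ : Φ.K →* ℂˣ) (χ : IrrCharacter G) : ℤ := (Φ.exists_mul i θ χ).choose

theorem mlt_eq (i : Fin 4) (θ : Φ.K →* ℂˣ) (χ : IrrCharacter G) :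
    (Φ.mlt i θ χ : ℂ) = (Nat.card (Four × Φ.K) : ℂ)⁻¹ *
      ∑ x : Four × Φ.K, (χ : G → ℂ) (Φ.emb x) * conj (Φ.fn i θ x) := by
  rw [mlt, ← (Φ.exists_mul i θ χ).choose_spec, mul', classInner_def]

theorem sum_mlt_mul (i : Fin 4) (θ : Φ.K →* ℂˣ) (c : IrrCharacter G → ℂ) :
    ∑ χ : IrrCharacter G, (Φ.mlt i θ χ : ℂ) * c χ = (Nat.card (Four × Φ.K) : ℂ)⁻¹ *
      ∑ x : Four × Φ.K, conj (Φ.fn i θ x) * ∑ χ : IrrCharacter G, c χ * (χ : G → ℂ) (Φ.emb x) := by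
  simp only [mlt_eq, Finset.mul_sum, Finset.sum_mul]
  rw [Finset.sum_comm]
  exact Finset.sum_congr rfl fun x _ => Finset.sum_congr rfl fun χ _ => by ring

theorem sum_prod_four (F : Four × Φ.K → ℂ) : ∑ x, F x = ∑ w : Four, ∑ y : Φ.K, F (w, y) :=
  Fintype.sum_prod_type F

theorem card_X : (Nat.card (Four × Φ.K) : ℂ) = 4 * (Nat.card Φ.K : ℂ) := by
  rw [Nat.card_prod, card_four]; push_cast; rfl

theorem card_K_ne : (Nat.card Φ.K : ℂ) ≠ 0 := by exact_mod_cast Nat.card_pos.ne'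

/-- The value at an element of order at most two. -/
theorem sum_mlt_involution (i : Fin 4) (θ : Φ.K →* ℂˣ) {g : G} (hg : g * g = 1) :
    ∑ χ : IrrCharacter G, (Φ.mlt i θ χ : ℂ) * (χ : G → ℂ) g = 0 := by
  rw [sum_mlt_mul]
  refine mul_eq_zero_of_right _ (Finset.sum_eq_zero fun x _ => ?_)
  by_cases hx : x.2 = 1
  · rw [Φ.fn_zero i θ hx, map_zero, zero_mul]
  rw [Finset.sum_congr rfl fun (χ : IrrCharacter G) _ => show (χ : G → ℂ) g * (χ : G → ℂ) (Φ.emb x) =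
    (χ : G → ℂ) (Φ.emb x) * conj ((χ : G → ℂ) g⁻¹) by
      rw [← IsCharacter.conj_inv (isCharacter_of_irr χ.2), inv_inv, mul_comm], sum_conj_eq_card]
  haveI : IsEmpty {c : G // c * Φ.emb x * c⁻¹ = g⁻¹} := ⟨fun c => Φ.sq_ne hx (by
    rw [← Φ.emb_sq, show Φ.emb x * Φ.emb x = c.1⁻¹ * ((c.1 * Φ.emb x * c.1⁻¹) * (c.1 * Φ.emb x * c.1⁻¹)) * c.1 by
      group, c.2, ← mul_inv_rev, hg]
    simp)⟩
  simp

/-- The inner products. -/
theorem sum_mlt_mlt (hmv : Φ.Moved) (i j : Fin 4) {θ θ' : Φ.K →* ℂˣ} (hθ : θ ≠ 1) (hθ' : θ' ≠ 1) :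
    ((∑ χ : IrrCharacter G, Φ.mlt i θ χ * Φ.mlt j θ' χ : ℤ) : ℂ) =
      4⁻¹ * ∑ p : Fin 3 × Bool, (table i j p.1 : ℂ) * ((if θ'.comp (Φ.act p) = θ then 1 else 0) + 1) := by
  classical
  have hN : (Nat.card (Four × Φ.K) : ℂ) ≠ 0 := by exact_mod_cast Nat.card_pos.ne'
  push_cast
  have hconj : ∀ χ : IrrCharacter G, (Φ.mlt j θ' χ : ℂ) = (Nat.card (Four × Φ.K) : ℂ)⁻¹ *
      ∑ x : Four × Φ.K, conj ((χ : G → ℂ) (Φ.emb x)) * Φ.fn j θ' x := fun χ => by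
    rw [← map_intCast (starRingEnd ℂ), mlt_eq, map_mul, map_inv₀, map_natCast, map_sum]
    simp only [map_mul, Complex.conj_conj]
  rw [sum_mlt_mul]
  have hinner : ∀ a : Four × Φ.K, a.2 ≠ 1 →
      ∑ χ : IrrCharacter G, (Φ.mlt j θ' χ : ℂ) * (χ : G → ℂ) (Φ.emb a) =
        ∑ p : Fin 3 × Bool, Φ.fn j θ' (Φ.sig p a) := by
    intro a ha
    simp only [hconj, Finset.mul_sum, Finset.sum_mul]
    rw [Finset.sum_comm, Finset.sum_congr rfl fun b _ => show _ =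
      ∑ p : Fin 3 × Bool, if Φ.sig p a = b then Φ.fn j θ' b else 0 by
        rw [Finset.sum_congr rfl fun (χ : IrrCharacter G) _ => show (Nat.card (Four × Φ.K) : ℂ)⁻¹ *
          (conj ((χ : G → ℂ) (Φ.emb b)) * Φ.fn j θ' b) * (χ : G → ℂ) (Φ.emb a) =
          (Nat.card (Four × Φ.K) : ℂ)⁻¹ * Φ.fn j θ' b *
            ((χ : G → ℂ) (Φ.emb a) * conj ((χ : G → ℂ) (Φ.emb b))) by ring,
          ← Finset.mul_sum, sum_conj_eq_card, Φ.card_conj hmv ha, ← Finset.sum_filter, Finset.sum_const,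
          nsmul_eq_mul, Nat.card_eq_fintype_card (α := {p // Φ.sig p a = b}), Fintype.card_subtype, Nat.cast_mul]
        field_simp, Finset.sum_comm]
    exact Finset.sum_congr rfl fun p _ => by simp
  rw [Finset.sum_congr rfl fun a _ => show _ = conj (Φ.fn i θ a) * ∑ p : Fin 3 × Bool, Φ.fn j θ' (Φ.sig p a) by
    by_cases ha : a.2 = 1
    · rw [Φ.fn_zero i θ ha, map_zero, zero_mul, zero_mul]
    · rw [hinner a ha]]
  simp only [Finset.mul_sum]
  rw [Finset.sum_comm]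
  refine Finset.sum_congr rfl fun p _ => ?_
  have hK : ∑ y : Φ.K, conj ((θ y : ℂ) - 1) * ((θ' (Φ.act p y) : ℂ) - 1) =
      (Nat.card Φ.K : ℂ) * ((if θ'.comp (Φ.act p) = θ then 1 else 0) + 1) := by
    have hμ : θ'.comp (Φ.act p) ≠ 1 := fun e => hθ' (MonoidHom.ext fun y => by
      obtain ⟨y', hy'⟩ := (Φ.cj_bij p.1).2 y
      have := DFunLike.congr_fun e (Φ.ivh p.2 y')
      have hh : Φ.ivh p.2 (Φ.ivh p.2 y') = y' := by cases p.2 <;> simp [ivh]
      simpa [act, hh, hy'] using this)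
    rw [Finset.sum_congr rfl fun y _ => show conj ((θ y : ℂ) - 1) * ((θ' (Φ.act p y) : ℂ) - 1) =
      conj (θ y : ℂ) * ((θ'.comp (Φ.act p)) y : ℂ) - ((θ'.comp (Φ.act p)) y : ℂ) - conj ((θ y : ℂ) - 1) by
        rw [MonoidHom.comp_apply, map_sub, map_one]; ring, Finset.sum_sub_distrib, Finset.sum_sub_distrib,
      sum_pair_lin, sum_lin, if_neg hμ, sum_sub_one hθ]
    split_ifs <;> ring
  rw [sum_prod_four]
  have hw : ∀ w : Four, ∑ y : Φ.K, (Nat.card (Four × Φ.K) : ℂ)⁻¹ *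
      (conj (Φ.fn i θ (w, y)) * Φ.fn j θ' (Φ.sig p (w, y))) =
      ((sgn i w * sgn j (rot^[(p.1 : ℕ)] w) : ℤ) : ℂ) * ((4 : ℂ)⁻¹ *
        ((if θ'.comp (Φ.act p) = θ then 1 else 0) + 1)) := by
    intro w
    rw [Finset.sum_congr rfl fun y _ => show _ =
      ((Nat.card (Four × Φ.K) : ℂ)⁻¹ * ((sgn i w : ℂ) * (sgn j (rot^[(p.1 : ℕ)] w) : ℂ))) *
        (conj ((θ y : ℂ) - 1) * ((θ' (Φ.act p y) : ℂ) - 1)) by rw [conj_fn, fn, sig]; ring, ← Finset.mul_sum, hK,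
      card_X]
    have := Φ.card_K_ne
    push_cast
    field_simp
  rw [Finset.sum_congr rfl fun w _ => hw w, ← Finset.sum_mul, table, Int.cast_sum]
  ring

/-- The sums against functions known on the section. -/
theorem sum_mlt_section (i : Fin 4) (θ : Φ.K →* ℂˣ) (c : IrrCharacter G → ℂ) (g : Φ.K → ℂ)
    (hsec : ∀ y : Φ.K, y ≠ 1 → ∑ χ : IrrCharacter G, c χ * (χ : G → ℂ) (t * (y : G)) = g y)
    (hodd : ∀ y : Φ.K, ∑ χ : IrrCharacter G, c χ * (χ : G → ℂ) (y : G) = 0) :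
    ∑ χ : IrrCharacter G, (Φ.mlt i θ χ : ℂ) * c χ = (4 * (Nat.card Φ.K : ℂ))⁻¹ *
      ((sgn i (-1, 1) : ℂ) * ∑ y : Φ.K, conj ((θ y : ℂ) - 1) * g (Φ.cj 0 y) +
        (sgn i (1, -1) : ℂ) * ∑ y : Φ.K, conj ((θ y : ℂ) - 1) * g (Φ.cj 2 y) +
        (sgn i (-1, -1) : ℂ) * ∑ y : Φ.K, conj ((θ y : ℂ) - 1) * g (Φ.cj 1 y)) := by
  rw [sum_mlt_mul, card_X, sum_prod_four]
  congr 1
  have hval : ∀ w : Four, w ≠ 1 → ∀ y : Φ.K,
      conj (Φ.fn i θ (w, y)) * ∑ χ : IrrCharacter G, c χ * (χ : G → ℂ) (Φ.emb (w, y)) =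
        (sgn i w : ℂ) * (conj ((θ y : ℂ) - 1) * g (Φ.cj (back w) y)) := by
    intro w hw y
    by_cases hy : y = 1
    · rw [Φ.fn_zero i θ (x := (w, y)) hy, hy]; simp
    · rw [← hsec _ fun e => hy ((Φ.cj_bij (back w)).1 (e.trans (map_one _).symm)), conj_fn, mul_assoc]
      congr 1
      congr 1
      refine Finset.sum_congr rfl fun χ _ => ?_
      rw [← isClassFunction_irr χ (Φ.emb (w, y)) (Φ.m ^ back w), emb_apply, cj_coe]
      congr 2
      dsimp only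
      rw [show Φ.m ^ back w * (Φ.vel w * (y : G)) * (Φ.m ^ back w)⁻¹ =
        (Φ.m ^ back w * Φ.vel w * (Φ.m ^ back w)⁻¹) * (Φ.m ^ back w * (y : G) * (Φ.m ^ back w)⁻¹) by group,
        Φ.vel_back hw]
  have huniv : (Finset.univ : Finset Four) = {1, (-1, 1), (1, -1), (-1, -1)} := by decide
  rw [huniv, Finset.sum_insert (by decide), Finset.sum_insert (by decide), Finset.sum_insert (by decide),
    Finset.sum_singleton, Finset.sum_eq_zero fun y _ => ?_, zero_add,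
    Finset.sum_congr rfl fun y _ => hval (-1, 1) (by decide) y,
    Finset.sum_congr rfl fun y _ => hval (1, -1) (by decide) y,
    Finset.sum_congr rfl fun y _ => hval (-1, -1) (by decide) y]
  · simp only [Finset.mul_sum, show back (-1, 1) = 0 by decide, show back (1, -1) = 2 by decide,
      show back (-1, -1) = 1 by decide]
    ring
  · rw [emb_apply, map_one, one_mul, hodd, mul_zero]

theorem sum_cj (n : ℕ) (F : Φ.K → ℂ) : ∑ y : Φ.K, F (Φ.cj n y) = ∑ y : Φ.K, F y :=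
  Fintype.sum_bijective _ (Φ.cj_bij n) _ _ fun _ => rfl

/-- The sums against functions constant on `t K`. -/
theorem sum_mlt_const (i : Fin 4) {θ : Φ.K →* ℂˣ} (hθ : θ ≠ 1) (c : IrrCharacter G → ℂ) (c₀ : ℂ)
    (hsec : ∀ y : Φ.K, y ≠ 1 → ∑ χ : IrrCharacter G, c χ * (χ : G → ℂ) (t * (y : G)) = c₀)
    (hodd : ∀ y : Φ.K, ∑ χ : IrrCharacter G, c χ * (χ : G → ℂ) (y : G) = 0) :
    ∑ χ : IrrCharacter G, (Φ.mlt i θ χ : ℂ) * c χ = if i = 0 then -3 * c₀ / 4 else c₀ / 4 := by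
  rw [Φ.sum_mlt_section i θ c (fun _ => c₀) hsec hodd]
  simp only [← Finset.sum_mul, sum_sub_one hθ]
  have := Φ.card_K_ne
  fin_cases i <;> simp [sgn, sgnHom] <;> field_simp <;> ring

open scoped _root_.Classical in
/-- The sums against a function of the torus. -/
theorem sum_mlt_torus (i : Fin 4) (θ : Φ.K →* ℂˣ) {μ : Φ.K →* ℂˣ} (hμ : μ ≠ 1) (c : IrrCharacter G → ℂ)
    (hsec : ∀ y : Φ.K, y ≠ 1 →
      ∑ χ : IrrCharacter G, c χ * (χ : G → ℂ) (t * (y : G)) = 4 * ((μ y : ℂ) + (μ y : ℂ)⁻¹))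
    (hodd : ∀ y : Φ.K, ∑ χ : IrrCharacter G, c χ * (χ : G → ℂ) (y : G) = 0) :
    ∑ χ : IrrCharacter G, (Φ.mlt i θ χ : ℂ) * c χ =
      (sgn i (-1, 1) : ℂ) * ((if μ.comp (Φ.cj 0) = θ then 1 else 0) + if μ⁻¹.comp (Φ.cj 0) = θ then 1 else 0) +
      (sgn i (1, -1) : ℂ) * ((if μ.comp (Φ.cj 2) = θ then 1 else 0) + if μ⁻¹.comp (Φ.cj 2) = θ then 1 else 0) +
      (sgn i (-1, -1) : ℂ) * ((if μ.comp (Φ.cj 1) = θ then 1 else 0) + if μ⁻¹.comp (Φ.cj 1) = θ then 1 else 0) := by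
  rw [Φ.sum_mlt_section i θ c (fun y => 4 * ((μ y : ℂ) + (μ y : ℂ)⁻¹)) hsec hodd]
  have hμ' : μ⁻¹ ≠ 1 := fun h => hμ (MonoidHom.ext fun a => inv_eq_one.1 (DFunLike.congr_fun h a))
  have key : ∀ n, ∑ y : Φ.K, conj ((θ y : ℂ) - 1) * (4 * ((μ (Φ.cj n y) : ℂ) + (μ (Φ.cj n y) : ℂ)⁻¹)) =
      4 * (Nat.card Φ.K : ℂ) *
        ((if μ.comp (Φ.cj n) = θ then 1 else 0) + if μ⁻¹.comp (Φ.cj n) = θ then 1 else 0) := by
    intro n
    have h0 : ∀ ν : Φ.K →* ℂˣ, ν ≠ 1 → ∑ y : Φ.K, (ν (Φ.cj n y) : ℂ) = 0 := fun ν hν => by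
      rw [Φ.sum_cj n fun y => (ν y : ℂ), sum_lin, if_neg hν]
    rw [Finset.sum_congr rfl fun y _ => show _ =
      4 * (conj (θ y : ℂ) * ((μ.comp (Φ.cj n)) y : ℂ)) + 4 * (conj (θ y : ℂ) * ((μ⁻¹.comp (Φ.cj n)) y : ℂ)) -
        4 * (μ (Φ.cj n y) : ℂ) - 4 * (μ⁻¹ (Φ.cj n y) : ℂ) by
          simp only [MonoidHom.comp_apply, MonoidHom.inv_apply, Units.val_inv_eq_inv_val, map_sub, map_one]
          ring,
      Finset.sum_sub_distrib, Finset.sum_sub_distrib, Finset.sum_add_distrib]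
    simp only [← Finset.mul_sum, sum_pair_lin, h0 μ hμ, h0 μ⁻¹ hμ', mul_zero, sub_zero]
    split_ifs <;> ring
  rw [key, key, key]
  have := Φ.card_K_ne
  field_simp

/-- The multiplicities of a character constant on `t K`. -/
theorem mlt_const (i : Fin 4) {θ : Φ.K →* ℂˣ} (hθ : θ ≠ 1) (χ : IrrCharacter G) (u : ℂ)
    (hu : ∀ y : Φ.K, y ≠ 1 → (χ : G → ℂ) (t * (y : G)) = u) :
    4 * (Nat.card Φ.K : ℂ) * (Φ.mlt i θ χ : ℂ) = (∑ y : Φ.K, conj ((θ y : ℂ) - 1) * (χ : G → ℂ) (y : G)) +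
      (if i = 0 then -3 else 1) * (Nat.card Φ.K : ℂ) * u := by
  rw [mlt_eq, card_X, mul_inv_cancel_left₀ (mul_ne_zero (by norm_num) Φ.card_K_ne), sum_prod_four]
  have hval : ∀ w : Four, w ≠ 1 → ∀ y : Φ.K,
      (χ : G → ℂ) (Φ.emb (w, y)) * conj (Φ.fn i θ (w, y)) = (sgn i w : ℂ) * u * conj ((θ y : ℂ) - 1) := by
    intro w hw y
    by_cases hy : y = 1
    · rw [Φ.fn_zero i θ (x := (w, y)) hy, hy]; simp
    · rw [conj_fn, ← hu _ fun e => hy ((Φ.cj_bij (back w)).1 (e.trans (map_one _).symm)),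
        ← isClassFunction_irr χ (Φ.emb (w, y)) (Φ.m ^ back w), emb_apply]
      dsimp only
      rw [show Φ.m ^ back w * (Φ.vel w * (y : G)) * (Φ.m ^ back w)⁻¹ =
        (Φ.m ^ back w * Φ.vel w * (Φ.m ^ back w)⁻¹) * (Φ.m ^ back w * (y : G) * (Φ.m ^ back w)⁻¹) by group,
        Φ.vel_back hw, cj_coe]
      ring
  have huniv : (Finset.univ : Finset Four) = {1, (-1, 1), (1, -1), (-1, -1)} := by decide
  rw [huniv, Finset.sum_insert (by decide), Finset.sum_insert (by decide), Finset.sum_insert (by decide),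
    Finset.sum_singleton, Finset.sum_congr rfl fun y _ => hval (-1, 1) (by decide) y,
    Finset.sum_congr rfl fun y _ => hval (1, -1) (by decide) y,
    Finset.sum_congr rfl fun y _ => hval (-1, -1) (by decide) y,
    Finset.sum_congr rfl fun y _ => show _ = conj ((θ y : ℂ) - 1) * (χ : G → ℂ) (y : G) by
      rw [conj_fn, emb_apply, map_one, one_mul, show sgn i ((1 : Four), y).1 = 1 by simp [sgn]]
      push_cast
      ring]
  simp only [← Finset.mul_sum, sum_sub_one hθ]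
  fin_cases i <;> simp [sgn, sgnHom] <;> ring

/-- The weighted sum of the squares of the values at the involution. -/
theorem sum_mlt_count (hmv : Φ.Moved) (hall : ∀ s : G, orderOf s = 2 → IsConj t s) (i : Fin 4) {θ : Φ.K →* ℂˣ}
    (hθ : θ ≠ 1) :
    ∑ χ : IrrCharacter G, (χ : G → ℂ) t ^ 2 * (Φ.mlt i θ χ : ℂ) / (χ : G → ℂ) 1 =
      (Nat.card (Subgroup.centralizer ({t} : Set G)) : ℂ) ^ 2 / (Nat.card G : ℂ) *
        (if i = 0 then -4 * (Nat.card Φ.K : ℂ) else 0) := by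
  classical
  rw [Finset.sum_congr rfl fun χ _ => show _ = (Φ.mlt i θ χ : ℂ) * ((χ : G → ℂ) t ^ 2 / (χ : G → ℂ) 1) by ring,
    sum_mlt_mul]
  set γ : ℂ := (Nat.card (Subgroup.centralizer ({t} : Set G)) : ℂ) ^ 2 / (Nat.card G : ℂ) with hγ
  have hC0 : (Nat.card (Subgroup.centralizer ({t} : Set G)) : ℂ) ≠ 0 := by exact_mod_cast Nat.card_pos.ne'
  have hi0 : ((Subgroup.centralizer ({t} : Set G)).index : ℂ) ≠ 0 := by
    exact_mod_cast Subgroup.index_ne_zero_of_finite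
  have hidx : (Nat.card G : ℂ) = (Subgroup.centralizer ({t} : Set G)).index *
      Nat.card (Subgroup.centralizer ({t} : Set G)) := by
    rw [← Nat.cast_mul, Subgroup.index_mul_card]
  have hcol : ∀ x : Four × Φ.K, x.2 ≠ 1 →
      ∑ χ : IrrCharacter G, (χ : G → ℂ) t ^ 2 / (χ : G → ℂ) 1 * (χ : G → ℂ) (Φ.emb x) =
        γ * (Nat.card (Four × Φ.K) : ℂ) := by
    intro x hx
    rw [hγ, ← Φ.card_inverting hmv (a := x⁻¹) (by simpa using hx),
      ← Cfsg.Lib.Dihedral.card_pairs_eq Φ.t_ord hall, class_mult_formula, card_isConj,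
      Finset.sum_congr rfl fun (χ : IrrCharacter G) _ => show (χ : G → ℂ) t ^ 2 / (χ : G → ℂ) 1 * (χ : G → ℂ) (Φ.emb x) =
        (χ : G → ℂ) t * (χ : G → ℂ) t * conj ((χ : G → ℂ) (Φ.emb x⁻¹)) / (χ : G → ℂ) 1 by
          rw [map_inv, ← IsCharacter.conj_inv (isCharacter_of_irr χ.2), inv_inv]; ring, hidx]
    field_simp
  rw [Finset.sum_congr rfl fun x _ => show _ = conj (Φ.fn i θ x) * (γ * (Nat.card (Four × Φ.K) : ℂ)) by
    by_cases hx : x.2 = 1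
    · rw [Φ.fn_zero i θ hx, map_zero, zero_mul, zero_mul]
    · rw [hcol x hx], ← Finset.sum_mul, sum_prod_four,
    Finset.sum_congr rfl fun w _ => show ∑ y : Φ.K, conj (Φ.fn i θ (w, y)) =
      (sgn i w : ℂ) * -(Nat.card Φ.K : ℂ) by simp only [conj_fn, ← Finset.mul_sum, sum_sub_one hθ],
    ← Finset.sum_mul, ← Int.cast_sum,
    show ∑ w : Four, sgn i w = if i = 0 then 4 else 0 by fin_cases i <;> decide, card_X]
  have := Φ.card_K_ne
  split_ifs <;> push_cast <;> field_simp <;> ring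

end Frame

end Cfsg.Lib.Ree
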